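import Cfsg.Agent.Lib.FGB.Supersolvable
import Cfsg.Agent.Lib.LocalEvenB.HyperCyclic
import Cfsg.Agent.Lib.Basics.Tools

/-!
Basic closure properties of finite supersolvable groups.
-/

set_option autoImplicit false
set_option linter.style.haveILetI false

namespace Cfsg.Agent.Supersolv

open Subgroup Cfsg.Agent.LocalEvenB

universe u v

theorem of_subsingleton {G : Type u} [Group G] [Subsingleton G] : Cfsg.IsSupersolvable G :=
  ⟨0, fun _ => ⊥, rfl, Subsingleton.elim _ _, fun _ => inferInstance, fun i => i.elim0⟩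

theorem quotient {G : Type u} [Group G] (hG : Cfsg.IsSupersolvable G) (N : Subgroup G) [N.Normal] :
    Cfsg.IsSupersolvable (G ⧸ N) :=
  FGB.isSupersolvable_of_surjective _ (QuotientGroup.mk'_surjective N) hG

theorem congr {G : Type u} {H : Type v} [Group G] [Group H] (e : G ≃* H) (hG : Cfsg.IsSupersolvable G) :
    Cfsg.IsSupersolvable H :=
  FGB.isSupersolvable_of_surjective e.toMonoidHom e.surjective hG

theorem of_injective {G : Type u} {H : Type v} [Group G] [Group H] (f : H →* G)
    (hf : Function.Injective f) (hG : Cfsg.IsSupersolvable G) : Cfsg.IsSupersolvable H := by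
  obtain ⟨n, S, h0, hl, hn, hs⟩ := hG
  refine ⟨n, fun i => (S i).comap f, ?_, ?_, fun i => (hn i).comap f, fun i => ?_⟩
  · show (S 0).comap f = ⊥
    rw [h0]; exact (MonoidHom.ker_eq_bot_iff f).mpr hf
  · show (S (Fin.last n)).comap f = ⊤
    rw [hl, Subgroup.comap_top]
  · show ∃ x : H, (S i.succ).comap f = (S i.castSucc).comap f ⊔ zpowers x
    obtain ⟨g, hg⟩ := hs i
    haveI := hn i.castSucc
    let π := (QuotientGroup.mk' (S i.castSucc)).comp f
    have hle : ((S i.succ).comap f).map π ≤ zpowers (QuotientGroup.mk' (S i.castSucc) g) := by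
      rw [← MonoidHom.map_zpowers]
      rintro _ ⟨u, hu, rfl⟩
      have hu' : f u ∈ S i.castSucc ⊔ zpowers g := hg ▸ hu
      obtain ⟨a, ha, b, hb, hab⟩ := Subgroup.mem_sup_of_normal_left.mp hu'
      refine ⟨b, hb, ?_⟩
      show QuotientGroup.mk' _ b = QuotientGroup.mk' _ (f u)
      rw [← hab, map_mul, show QuotientGroup.mk' (S i.castSucc) a = 1 from (QuotientGroup.eq_one_iff a).mpr ha,
        one_mul]
    obtain ⟨z, hz⟩ := Subgroup.isCyclic_iff_exists_zpowers_eq_top _ |>.mp (Subgroup.isCyclic_of_le hle)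
    obtain ⟨x, hx, rfl⟩ := (hz ▸ mem_zpowers z : z ∈ ((S i.succ).comap f).map π)
    refine ⟨x, le_antisymm (fun u hu => ?_) (sup_le (Subgroup.comap_mono (hg ▸ le_sup_left)) (zpowers_le.mpr hx))⟩
    obtain ⟨k, hk⟩ := mem_zpowers_iff.mp (hz.ge (mem_map_of_mem π hu) : π u ∈ zpowers (π x))
    rw [← inv_mul_cancel_right u (x ^ k)]
    refine mul_mem (mem_sup_left ?_) (mem_sup_right (zpow_mem (mem_zpowers x) k))
    rw [mem_comap, ← QuotientGroup.eq_one_iff]
    show π (u * (x ^ k)⁻¹) = 1
    rw [map_mul, map_inv, map_zpow, hk, mul_inv_cancel]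

theorem subgroup {G : Type u} [Group G] (hG : Cfsg.IsSupersolvable G) (H : Subgroup G) :
    Cfsg.IsSupersolvable H := of_injective H.subtype H.subtype_injective hG

theorem of_le {G : Type u} [Group G] {H K : Subgroup G} (h : H ≤ K) (hK : Cfsg.IsSupersolvable K) :
    Cfsg.IsSupersolvable H := of_injective (Subgroup.inclusion h) (Subgroup.inclusion_injective h) hK

theorem cycReach_cyclic {G : Type u} [Group G] (N : Subgroup G) [N.Normal] [IsCyclic N] : CycReach N := by
  obtain ⟨g, hg⟩ := (Subgroup.isCyclic_iff_exists_zpowers_eq_top N).mp inferInstance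
  have e : N = ⊥ ⊔ zpowers g := by rw [bot_sup_eq, hg]
  rw [e]
  exact CycReach.step g CycReach.bot (by rw [← e]; infer_instance)

theorem of_cyclic_quotient {G : Type u} [Group G] (N : Subgroup G) [N.Normal] [IsCyclic N]
    (h : Cfsg.IsSupersolvable (G ⧸ N)) : Cfsg.IsSupersolvable G :=
  isSupersolvable_of_cycReach (cycReach_top_of_quotient N h (cycReach_cyclic N))

theorem cycReach_series {G : Type u} [Group G] {n : ℕ} (S : Fin (n + 1) → Subgroup G) (h0 : S 0 = ⊥)
    (hn : ∀ i, (S i).Normal) (hs : ∀ i : Fin n, ∃ g : G, S i.succ = S i.castSucc ⊔ zpowers g)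
    (i : Fin (n + 1)) : CycReach (S i) := by
  induction i using Fin.induction with
  | zero => rw [h0]; exact CycReach.bot
  | succ i ih =>
    obtain ⟨g, hg⟩ := hs i
    rw [hg]
    exact CycReach.step g ih (hg ▸ hn i.succ)

theorem prod {G : Type u} {H : Type v} [Group G] [Group H] (hG : Cfsg.IsSupersolvable G)
    (hH : Cfsg.IsSupersolvable H) : Cfsg.IsSupersolvable (G × H) := by
  obtain ⟨n, S, h0, hl, hn, hs⟩ := hH
  have hinr : CycReach ((⊥ : Subgroup G).prod (⊤ : Subgroup H)) := by
    rw [← hl]
    refine cycReach_series (fun i => (⊥ : Subgroup G).prod (S i)) ?_ (fun i => ?_) (fun i => ?_) (Fin.last n)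
    · show (⊥ : Subgroup G).prod (S 0) = ⊥
      rw [h0, Subgroup.bot_prod_bot]
    · haveI := hn i; infer_instance
    · obtain ⟨g, hg⟩ := hs i
      refine ⟨(1, g), ?_⟩
      have e : ∀ K : Subgroup H, (⊥ : Subgroup G).prod K = K.map (MonoidHom.inr G H) := fun K => by
        ext ⟨a, b⟩
        simp [Subgroup.mem_prod, eq_comm, and_comm]
      show (⊥ : Subgroup G).prod (S i.succ) = (⊥ : Subgroup G).prod (S i.castSucc) ⊔ _
      rw [e, e, hg, Subgroup.map_sup, MonoidHom.map_zpowers]; rfl
  haveI : ((⊥ : Subgroup G).prod (⊤ : Subgroup H)).Normal := inferInstance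
  refine isSupersolvable_of_cycReach (cycReach_top_of_quotient _ ?_ hinr)
  refine FGB.isSupersolvable_of_surjective
    ((QuotientGroup.mk' ((⊥ : Subgroup G).prod (⊤ : Subgroup H))).comp (MonoidHom.inl G H)) (fun q => ?_) hG
  obtain ⟨⟨a, b⟩, rfl⟩ := QuotientGroup.mk'_surjective _ q
  exact ⟨a, (QuotientGroup.eq.mpr (by simp [Subgroup.mem_prod]))⟩

variable {G : Type u} [Group G] [Finite G]

theorem isSolvable (hG : Cfsg.IsSupersolvable G) : Group.IsSolvable G := by
  suffices ∀ (n : ℕ) (G : Type u) [Group G] [Finite G], Nat.card G = n → Cfsg.IsSupersolvable G →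
      Group.IsSolvable G from this _ G rfl hG
  intro n
  induction n using Nat.strong_induction_on with
  | _ n ih =>
  intro G _ _ hn hG
  rcases subsingleton_or_nontrivial G with hs | hs
  · infer_instance
  obtain ⟨C, hC, hCp⟩ := FGB.exists_normal_prime_subgroup hG
  haveI := hC
  haveI := Fact.mk hCp
  haveI := ih _ (hn ▸ Basics.card_quotient_lt fun h => by rw [h, Subgroup.card_bot] at hCp; exact Nat.not_prime_one hCp)
    (G ⧸ C) rfl (quotient hG C)
  haveI : IsCyclic C := isCyclic_of_prime_card rfl
  haveI : Group.IsSolvable C := by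
    letI := IsCyclic.commGroup (α := C)
    infer_instance
  exact Group.isSolvable_of_ker_le_range C.subtype (QuotientGroup.mk' C) (by simp)

omit [Finite G] in
theorem comap_exists_prime (N : Subgroup G) [Finite N] (hN : N ≠ ⊥) [IsCyclic N] [N.Normal] :
    ∃ C : Subgroup G, C.Normal ∧ C ≤ N ∧ (Nat.card C).Prime := by
  have h1 : Nat.card N ≠ 1 := fun h => hN (Subgroup.eq_bot_of_card_eq _ h)
  haveI := Fact.mk (Nat.minFac_prime h1)
  obtain ⟨x, hx⟩ := exists_prime_orderOf_dvd_card' (G := N) (Nat.card N).minFac (Nat.minFac_dvd _)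
  haveI : (zpowers x).Characteristic := by
    rw [Subgroup.characteristic_iff_map_le]
    rintro φ _ ⟨y, hy, rfl⟩
    obtain ⟨m, hm⟩ := φ.toMonoidHom.map_cyclic
    rw [hm]
    exact (zpowers x).zpow_mem hy m
  refine ⟨(zpowers x).map N.subtype, inferInstance, Subgroup.map_subtype_le _, ?_⟩
  rw [Subgroup.card_map_of_injective N.subtype_injective, Nat.card_zpowers, hx]
  exact Nat.minFac_prime h1

/-- Every nontrivial normal subgroup contains a normal subgroup of prime order. -/
theorem exists_normal_prime_le (hG : Cfsg.IsSupersolvable G) (N : Subgroup G) [N.Normal] (hN : N ≠ ⊥) :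
    ∃ C : Subgroup G, C.Normal ∧ C ≤ N ∧ (Nat.card C).Prime := by
  obtain ⟨n, S, h0, hl, hn, hs⟩ := hG
  have : ∀ i, N ⊓ S i ≠ ⊥ → ∃ C : Subgroup G, C.Normal ∧ C ≤ N ∧ (Nat.card C).Prime := by
    intro i
    induction i using Fin.induction with
    | zero => intro h; rw [h0, inf_bot_eq] at h; exact absurd rfl h
    | succ i ih =>
      intro hne
      by_cases hb : N ⊓ S i.castSucc = ⊥
      swap
      · exact ih hb
      obtain ⟨g, hg⟩ := hs i
      haveI := hn i.castSucc
      haveI := hn i.succ
      haveI : (N ⊓ S i.succ).Normal := inferInstance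
      let π := QuotientGroup.mk' (S i.castSucc)
      have hle : (N ⊓ S i.succ).map π ≤ zpowers (π g) := by
        rw [← MonoidHom.map_zpowers]
        rintro _ ⟨u, hu, rfl⟩
        obtain ⟨a, ha, b, hbm, rfl⟩ := Subgroup.mem_sup_of_normal_left.mp (hg ▸ hu.2 : u ∈ S i.castSucc ⊔ zpowers g)
        exact ⟨b, hbm, by rw [map_mul, show π a = 1 from (QuotientGroup.eq_one_iff a).mpr ha, one_mul]⟩
      haveI := Subgroup.isCyclic_of_le hle
      haveI : IsCyclic (N ⊓ S i.succ : Subgroup G) := by
        refine isCyclic_of_injective (π.subgroupMap (N ⊓ S i.succ)) ?_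
        refine (injective_iff_map_eq_one _).mpr fun u hu => ?_
        have h1 : π (u : G) = 1 := congrArg Subtype.val hu
        have h2 : (u : G) ∈ N ⊓ S i.castSucc := ⟨u.2.1, (QuotientGroup.eq_one_iff _).mp h1⟩
        rw [hb, Subgroup.mem_bot] at h2
        exact Subtype.ext h2
      obtain ⟨C, hC1, hC2, hC3⟩ := comap_exists_prime (N ⊓ S i.succ) hne
      exact ⟨C, hC1, hC2.trans inf_le_left, hC3⟩
  exact this (Fin.last n) (by rw [hl, inf_top_eq]; exact hN)

/-- In a supersolvable group maximal subgroups have prime index. -/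
theorem coatom_index_prime (hG : Cfsg.IsSupersolvable G) (M : Subgroup G) (hM : IsCoatom M) :
    M.index.Prime := by
  suffices ∀ (n : ℕ) (G : Type u) [Group G] [Finite G], Nat.card G = n → Cfsg.IsSupersolvable G →
      ∀ M : Subgroup G, IsCoatom M → M.index.Prime from this _ G rfl hG M hM
  intro n
  induction n using Nat.strong_induction_on with
  | _ n ih =>
  intro G _ _ hn hG M hM
  haveI : Nontrivial G := by
    by_contra h
    haveI := not_nontrivial_iff_subsingleton.mp h
    exact hM.1 (Subsingleton.elim _ _)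
  obtain ⟨C, hC, hCp⟩ := FGB.exists_normal_prime_subgroup hG
  haveI := hC
  by_cases hCM : C ≤ M
  · have hsur := QuotientGroup.mk'_surjective C
    have hback : (M.map (QuotientGroup.mk' C)).comap (QuotientGroup.mk' C) = M :=
      Subgroup.comap_map_eq_self (by rw [QuotientGroup.ker_mk']; exact hCM)
    have hco : IsCoatom (M.map (QuotientGroup.mk' C)) := by
      refine ⟨fun h => hM.1 (by rw [← hback, h, Subgroup.comap_top]), fun X hX => ?_⟩
      have h2 := hM.2 (X.comap (QuotientGroup.mk' C))
        (hback ▸ (Subgroup.comap_lt_comap_of_surjective hsur).mpr hX)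
      rw [← Subgroup.map_comap_eq_self_of_surjective hsur X, h2, Subgroup.map_top_of_surjective _ hsur]
    have hlt := hn ▸ Basics.card_quotient_lt (N := C) fun h => by
      rw [h, Subgroup.card_bot] at hCp; exact Nat.not_prime_one hCp
    have := ih _ hlt (G ⧸ C) rfl (quotient hG C) _ hco
    rwa [← Subgroup.index_comap_of_surjective _ hsur, hback] at this
  · haveI := Fact.mk hCp
    have hinf : C ⊓ M = ⊥ := by
      rcases (Nat.dvd_prime hCp).mp (Subgroup.card_dvd_of_le (inf_le_left : C ⊓ M ≤ C)) with h | h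
      · exact Subgroup.eq_bot_of_card_eq _ h
      · exact absurd (inf_eq_left.mp (Subgroup.eq_of_le_of_card_ge inf_le_left h.ge)) hCM
    have hsup : C ⊔ M = ⊤ := hM.2 _ (lt_of_le_of_ne le_sup_right fun e => hCM (e ▸ le_sup_left))
    have hcomp : Subgroup.IsComplement' C M := Subgroup.isComplement'_of_disjoint_and_mul_eq_univ
      (disjoint_iff.mpr hinf) (by rw [← Subgroup.normal_mul, hsup]; rfl)
    rw [hcomp.index_eq_card]
    exact hCp

/-- The commutator subgroup of a supersolvable group is nilpotent. -/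
theorem commutator_isNilpotent (hG : Cfsg.IsSupersolvable G) : Group.IsNilpotent (commutator G) := by
  suffices ∀ (n : ℕ) (G : Type u) [Group G] [Finite G], Nat.card G = n → Cfsg.IsSupersolvable G →
      Group.IsNilpotent (commutator G) from this _ G rfl hG
  intro n
  induction n using Nat.strong_induction_on with
  | _ n ih =>
  intro G _ _ hn hG
  rcases subsingleton_or_nontrivial G with hs | hs
  · infer_instance
  obtain ⟨C, hC, hCp⟩ := FGB.exists_normal_prime_subgroup hG
  haveI := hC
  haveI := Fact.mk hCp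
  haveI := ih _ (hn ▸ Basics.card_quotient_lt fun h => by rw [h, Subgroup.card_bot] at hCp; exact Nat.not_prime_one hCp)
    (G ⧸ C) rfl (quotient hG C)
  haveI : IsCyclic C := isCyclic_of_prime_card rfl
  have hmap : (commutator G).map (QuotientGroup.mk' C) ≤ commutator (G ⧸ C) := by
    rw [_root_.commutator_def, _root_.commutator_def, Subgroup.map_commutator]
    exact Subgroup.commutator_mono le_top le_top
  let f : commutator G →* commutator (G ⧸ C) :=
    ((QuotientGroup.mk' C).comp (commutator G).subtype).codRestrict _ fun u => hmap (mem_map_of_mem _ u.2)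
  refine Subgroup.isNilpotent_of_ker_le_center f fun u hu => ?_
  have huC : (u : G) ∈ C := (QuotientGroup.eq_one_iff _).mp (congrArg Subtype.val hu)
  refine mem_center_iff.mpr fun w => Subtype.ext ?_
  letI : CommGroup (MulAut C) :=
    { (inferInstance : Group (MulAut C)) with
      mul_comm := fun f g => by
        apply (IsCyclic.mulAutMulEquiv C).injective
        rw [map_mul, map_mul, mul_comm] }
  have h := MonoidHom.mem_ker.mp (Abelianization.commutator_subset_ker (MulAut.conjNormal (H := C)) w.2)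
  have := congrArg Subtype.val (DFunLike.congr_fun h ⟨u, huC⟩)
  simp only [MulAut.conjNormal_apply, MulAut.one_apply] at this
  exact mul_inv_eq_iff_eq_mul.mp this

end Cfsg.Agent.Supersolv
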