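import Cfsg.Agent.Lib.Supersolv.Basic
import Cfsg.Agent.Lib.Basics.Cores
import Cfsg.Agent.Lib.Basics.Ito
import Cfsg.Agent.Lib.Basics.SchurZassenhaus

/-!
Chains, subgroup orders and further examples of supersolvable groups.
-/

set_option autoImplicit false
set_option linter.style.haveILetI false

namespace Cfsg.Agent.Supersolv

open Subgroup
open scoped Pointwise

universe u

theorem quotient_card {G : Type u} [Group G] (C : Subgroup G) :
    Nat.card G = Nat.card (G ⧸ C) * Nat.card C :=
  Subgroup.card_eq_card_quotient_mul_card_subgroup C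

theorem prime_ne_bot {G : Type u} [Group G] {C : Subgroup G} (h : (Nat.card C).Prime) : C ≠ ⊥ :=
  fun e => Nat.not_prime_one (by rwa [e, Subgroup.card_bot] at h)

theorem of_pgroup {p : ℕ} [hp : Fact p.Prime] {G : Type u} [Group G] [Finite G] (h : IsPGroup p G) :
    Cfsg.IsSupersolvable G := by
  suffices ∀ (n : ℕ) (G : Type u) [Group G] [Finite G], Nat.card G = n → IsPGroup p G →
      Cfsg.IsSupersolvable G from this _ G rfl h
  intro n
  induction n using Nat.strong_induction_on with
  | _ n ih =>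
  intro G _ _ hn h
  rcases subsingleton_or_nontrivial G with hs | hs
  · exact of_subsingleton
  haveI := h.center_nontrivial
  obtain ⟨z, hz⟩ := exists_ne (1 : center G)
  haveI : (zpowers (z : G)).Normal := ⟨fun x hx g => by
    obtain ⟨i, rfl⟩ := mem_zpowers_iff.mp hx
    rw [mem_center_iff.mp (zpow_mem z.2 i) g, mul_inv_cancel_right]
    exact zpow_mem (mem_zpowers _) i⟩
  refine of_cyclic_quotient (zpowers (z : G)) (ih _ ?_ _ rfl (h.to_quotient _))
  exact hn ▸ Basics.card_quotient_lt fun e => hz (Subtype.ext (Subgroup.zpowers_eq_bot.mp e))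

/-- a chain with non-increasing primes, all bounded by `b` -/
theorem exists_prime_chain {G : Type u} [Group G] [Finite G] (hG : Cfsg.IsSupersolvable G) (b : ℕ)
    (hb : ∀ r : ℕ, r.Prime → r ∣ Nat.card G → r ≤ b) :
    ∃ (n : ℕ) (H : Fin (n + 1) → Subgroup G), H 0 = ⊥ ∧ H (Fin.last n) = ⊤ ∧ (∀ i, (H i).Normal) ∧
      (∀ i : Fin n, H i.castSucc ≤ H i.succ ∧ ((H i.castSucc).relIndex (H i.succ)).Prime) ∧
      (∀ i j : Fin n, i ≤ j → (H j.castSucc).relIndex (H j.succ) ≤ (H i.castSucc).relIndex (H i.succ)) ∧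
      ∀ i : Fin n, (H i.castSucc).relIndex (H i.succ) ≤ b := by
  suffices ∀ (k : ℕ) (G : Type u) [Group G] [Finite G], Nat.card G = k → Cfsg.IsSupersolvable G →
      ∀ b : ℕ, (∀ r : ℕ, r.Prime → r ∣ Nat.card G → r ≤ b) →
      ∃ (n : ℕ) (H : Fin (n + 1) → Subgroup G), H 0 = ⊥ ∧ H (Fin.last n) = ⊤ ∧ (∀ i, (H i).Normal) ∧
      (∀ i : Fin n, H i.castSucc ≤ H i.succ ∧ ((H i.castSucc).relIndex (H i.succ)).Prime) ∧
      (∀ i j : Fin n, i ≤ j → (H j.castSucc).relIndex (H j.succ) ≤ (H i.castSucc).relIndex (H i.succ)) ∧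
      ∀ i : Fin n, (H i.castSucc).relIndex (H i.succ) ≤ b from this _ G rfl hG b hb
  intro k
  induction k using Nat.strong_induction_on with
  | _ k ih =>
  intro G _ _ hk hG b hb
  rcases subsingleton_or_nontrivial G with hs | hs
  · exact ⟨0, fun _ => ⊥, rfl, Subsingleton.elim _ _, fun _ => inferInstance, fun i => i.elim0,
      fun i => i.elim0, fun i => i.elim0⟩
  have hne : (Nat.card G).primeFactors.Nonempty := Nat.nonempty_primeFactors.mpr Finite.one_lt_card
  set p := (Nat.card G).primeFactors.max' hne with hp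
  have hpm := (Nat.card G).primeFactors.max'_mem hne
  have hpmax : ∀ r : ℕ, r.Prime → r ∣ Nat.card G → r ≤ p := fun r hr hd =>
    Finset.le_max' _ r (Nat.mem_primeFactors.mpr ⟨hr, hd, Nat.card_pos.ne'⟩)
  haveI := Fact.mk (Nat.prime_of_mem_primeFactors hpm)
  obtain ⟨P⟩ := (inferInstance : Nonempty (Sylow p G))
  haveI := FGB.sylow_normal_of_isSupersolvable hG p hpmax P
  have hPne : (P : Subgroup G) ≠ ⊥ := fun e => by
    have := P.dvd_card_of_dvd_card (Nat.dvd_of_mem_primeFactors hpm)
    rw [e, Subgroup.card_bot] at this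
    exact (Fact.out : p.Prime).not_dvd_one this
  obtain ⟨C, hC, hCP, hCp⟩ := exists_normal_prime_le hG (P : Subgroup G) hPne
  haveI := hC
  have hCcard : Nat.card C = p := by
    obtain ⟨j, hj⟩ := P.2.exists_card_eq
    exact (Nat.prime_dvd_prime_iff_eq hCp Fact.out).mp
      (hCp.dvd_of_dvd_pow (hj ▸ Subgroup.card_dvd_of_le hCP))
  obtain ⟨n, H, h0, hl, hn, hs, hmono, hle⟩ := ih _ (hk ▸ Basics.card_quotient_lt (prime_ne_bot hCp)) (G ⧸ C)
    rfl (quotient hG C) p (fun r hr hd => hpmax r hr (hd.trans ⟨_, quotient_card C⟩))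
  have hsur := QuotientGroup.mk'_surjective C
  let K : Fin (n + 2) → Subgroup G := Fin.cons ⊥ fun i => (H i).comap (QuotientGroup.mk' C)
  have K0 : K 0 = ⊥ := rfl
  have Ks : ∀ i, K (Fin.succ i) = (H i).comap (QuotientGroup.mk' C) := fun i => rfl
  have r0 : (K (0 : Fin (n+1)).castSucc).relIndex (K (0 : Fin (n+1)).succ) = p := by
    rw [Fin.castSucc_zero, K0, Ks, Subgroup.relIndex_bot_left, h0, MonoidHom.comap_bot,
      QuotientGroup.ker_mk', hCcard]
  have rs : ∀ i : Fin n, (K i.succ.castSucc).relIndex (K i.succ.succ) =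
      (H i.castSucc).relIndex (H i.succ) := fun i => by
    rw [← Fin.succ_castSucc, Ks, Ks, Subgroup.relIndex_comap, Subgroup.map_comap_eq_self_of_surjective hsur]
  refine ⟨n + 1, K, K0, ?_, fun i => ?_, fun i => ?_, fun i j hij => ?_, fun i => ?_⟩
  · rw [show Fin.last (n + 1) = (Fin.last n).succ from rfl, Ks, hl, Subgroup.comap_top]
  · refine Fin.cases ?_ (fun i => ?_) i
    · rw [K0]; infer_instance
    · rw [Ks]; exact (hn i).comap _
  · refine Fin.cases ?_ (fun i => ?_) i
    · exact ⟨by rw [Fin.castSucc_zero, K0]; exact bot_le, r0 ▸ Fact.out⟩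
    · refine ⟨?_, by rw [rs]; exact (hs i).2⟩
      rw [← Fin.succ_castSucc, Ks, Ks]; exact Subgroup.comap_mono (hs i).1
  · revert hij
    refine Fin.cases ?_ (fun i => ?_) i
    · intro _
      rw [r0]
      refine Fin.cases ?_ (fun j => ?_) j
      · rw [r0]
      · rw [rs]; exact hle j
    · refine Fin.cases ?_ (fun j => ?_) j
      · intro h; exact absurd h (not_le.mpr (Fin.succ_pos i))
      · intro h; rw [rs, rs]; exact hmono i j (Fin.succ_le_succ_iff.mp h)
  · refine Fin.cases ?_ (fun i => ?_) i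
    · rw [r0]; exact hb p Fact.out (Nat.dvd_of_mem_primeFactors hpm)
    · rw [rs]; exact (hle i).trans (hb p Fact.out (Nat.dvd_of_mem_primeFactors hpm))

/-- supersolvable groups have subgroups of every order -/
theorem hasSubgroupOfEveryOrder {G : Type u} [Group G] [Finite G] (hG : Cfsg.IsSupersolvable G) :
    Cfsg.HasSubgroupOfEveryOrder G := by
  suffices ∀ (k : ℕ) (G : Type u) [Group G] [Finite G], Nat.card G = k → Cfsg.IsSupersolvable G →
      Cfsg.HasSubgroupOfEveryOrder G from this _ G rfl hG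
  intro k
  induction k using Nat.strong_induction_on with
  | _ k ih =>
  intro G _ _ hk hG d hd
  rcases subsingleton_or_nontrivial G with hs | hs
  · rw [Nat.card_unique, Nat.dvd_one] at hd
    exact ⟨⊥, by rw [Subgroup.card_bot, hd]⟩
  obtain ⟨C, hC, hCp⟩ := FGB.exists_normal_prime_subgroup hG
  haveI := hC
  have ihC : ∀ e, e ∣ Nat.card (G ⧸ C) → ∃ K : Subgroup G, C ≤ K ∧ Nat.card K = e * Nat.card C := by
    intro e he
    obtain ⟨Kb, hKb⟩ := ih _ (hk ▸ Basics.card_quotient_lt (prime_ne_bot hCp)) (G ⧸ C) rfl (quotient hG C) e he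
    refine ⟨Kb.comap (QuotientGroup.mk' C), ?_, by rw [Basics.card_comap_mk', hKb, mul_comm]⟩
    intro c hc
    rw [mem_comap, (show QuotientGroup.mk' C c = 1 from (QuotientGroup.eq_one_iff c).mpr hc)]
    exact one_mem _
  by_cases hpd : Nat.card C ∣ d
  · obtain ⟨e, rfl⟩ := hpd
    obtain ⟨K, -, hK⟩ := ihC e (Nat.dvd_of_mul_dvd_mul_left hCp.pos (by rwa [mul_comm _ (Nat.card (G ⧸ C)), ← quotient_card]))
    exact ⟨K, by rw [hK, mul_comm]⟩
  · have hco : d.Coprime (Nat.card C) := (hCp.coprime_iff_not_dvd.mpr hpd).symm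
    obtain ⟨K, hCK, hK⟩ := ihC d (hco.dvd_of_dvd_mul_right (by rwa [← quotient_card]))
    have h1 : Nat.card (C.subgroupOf K) = Nat.card C := Basics.card_subgroupOf hCK
    have h2 : (C.subgroupOf K).index = d := by
      have := (C.subgroupOf K).index_mul_card
      rw [h1, hK] at this
      exact Nat.eq_of_mul_eq_mul_right hCp.pos this
    obtain ⟨H, hH⟩ := Subgroup.exists_right_complement'_of_coprime (N := C.subgroupOf K)
      (by rw [h1, h2]; exact hco.symm)
    exact ⟨H.map K.subtype, by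
      rw [Subgroup.card_map_of_injective K.subtype_injective, ← hH.symm.index_eq_card, h2]⟩

/-- groups whose order is twice a prime power -/
theorem of_card_two_mul_prime_pow {p : ℕ} [hp : Fact p.Prime] :
    ∀ (n : ℕ) (G : Type u) [Group G] [Finite G], Nat.card G = 2 * p ^ n → Cfsg.IsSupersolvable G := by
  intro n
  induction n using Nat.strong_induction_on with
  | _ n ih =>
  intro G _ _ hG
  haveI := Fact.mk Nat.prime_two
  by_cases hp2 : p = 2
  · subst hp2
    exact of_pgroup (p := 2) (IsPGroup.of_card (n := n + 1) (by rw [hG, pow_succ']))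
  rcases Nat.eq_zero_or_pos n with rfl | hn
  · exact of_pgroup (p := 2) (IsPGroup.of_card (n := 1) (by rw [hG, pow_zero, pow_one, mul_one]))
  obtain ⟨P⟩ := (inferInstance : Nonempty (Sylow p G))
  have hP : Nat.card (P : Subgroup G) = p ^ n := by
    obtain ⟨j, hj⟩ := P.2.exists_card_eq
    have h1 : p ^ n ∣ Nat.card (P : Subgroup G) := P.pow_dvd_card_of_pow_dvd_card (hG ▸ dvd_mul_left _ _)
    have h2 : p ^ j ∣ 2 * p ^ n := hj ▸ hG ▸ Subgroup.card_subgroup_dvd_card _
    refine Nat.dvd_antisymm ?_ h1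
    rw [hj]
    exact (Nat.Coprime.pow_left j ((Nat.coprime_primes hp.out Nat.prime_two).mpr hp2)).dvd_of_dvd_mul_left h2
  have hidx : (P : Subgroup G).index = 2 := by
    have := (P : Subgroup G).index_mul_card
    rw [hP, hG] at this
    exact Nat.eq_of_mul_eq_mul_right (pow_pos hp.out.pos n) this
  haveI := Subgroup.normal_of_index_eq_two hidx
  obtain ⟨t, ht⟩ := exists_prime_orderOf_dvd_card' (G := G) 2 (hG ▸ dvd_mul_right 2 _)
  haveI : Nontrivial (P : Subgroup G) := by
    rw [← Finite.one_lt_card_iff_nontrivial, hP]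
    exact one_lt_pow₀ hp.out.one_lt hn.ne'
  haveI := P.2.center_nontrivial
  obtain ⟨x, hx⟩ := exists_prime_orderOf_dvd_card' (G := center (P : Subgroup G)) p (by
    obtain ⟨j, hj0, hj⟩ := (P.2.to_subgroup _).nontrivial_iff_card.mp
      (inferInstance : Nontrivial (center (P : Subgroup G)))
    rw [hj]; exact dvd_pow_self p (by omega))
  -- an element of order `p` normalised by everything
  set v : G := ((x : (P : Subgroup G)) : G) with hv
  have hvo : orderOf v = p := by rw [hv, Subgroup.orderOf_coe, Subgroup.orderOf_coe, hx]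
  have hcent : ∀ u ∈ (P : Subgroup G), u * v = v * u := fun u hu =>
    congrArg Subtype.val (mem_center_iff.mp x.2 ⟨u, hu⟩)
  have htt : t * t = 1 := by rw [← pow_two, ← ht, pow_orderOf_eq_one]
  set v' := t * v * t⁻¹ with hv'
  have hv'P : v' ∈ (P : Subgroup G) := Normal.conj_mem inferInstance _ (x : (P : Subgroup G)).2 t
  have hcent' : ∀ u ∈ (P : Subgroup G), u * v' = v' * u := by
    intro u hu
    have h := hcent (t⁻¹ * u * t) (by
      have := (inferInstance : (P : Subgroup G).Normal).conj_mem u hu t⁻¹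
      rwa [inv_inv] at this)
    calc u * v' = t * ((t⁻¹ * u * t) * v) * t⁻¹ := by rw [hv']; group
      _ = t * (v * (t⁻¹ * u * t)) * t⁻¹ := by rw [h]
      _ = v' * u := by rw [hv']; group
  have htinv : t⁻¹ = t := inv_eq_of_mul_eq_one_right htt
  have ht' : t * v' * t⁻¹ = v := by
    rw [hv', htinv, show t * (t * v * t) * t = (t * t) * v * (t * t) by group, htt, one_mul, mul_one]
  -- choose `w`
  obtain ⟨w, hw1, hwp, hwP, hwc, hwt⟩ : ∃ w : G, w ≠ 1 ∧ w ^ p = 1 ∧ w ∈ (P : Subgroup G) ∧
      (∀ u ∈ (P : Subgroup G), u * w = w * u) ∧ t * w * t⁻¹ ∈ zpowers w := by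
    have hvP : v ∈ (P : Subgroup G) := (x : (P : Subgroup G)).2
    by_cases h1 : v * v' = 1
    · refine ⟨v, fun e => hp.out.one_lt.ne (by rw [← hvo, e, orderOf_one]), hvo ▸ pow_orderOf_eq_one v,
        hvP, hcent, ?_⟩
      rw [← hv', ← inv_eq_of_mul_eq_one_right h1]
      exact inv_mem (mem_zpowers v)
    · refine ⟨v * v', h1, ?_, mul_mem hvP hv'P, fun u hu => ?_, ?_⟩
      · rw [(show Commute v v' from (hcent v' hv'P).symm).mul_pow, ← hvo, pow_orderOf_eq_one, one_mul,
          hvo, hv', conj_pow, ← hvo, pow_orderOf_eq_one, mul_one, mul_inv_cancel]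
      · rw [← mul_assoc, hcent u hu, mul_assoc, hcent' u hu, ← mul_assoc]
      · rw [show t * (v * v') * t⁻¹ = (t * v * t⁻¹) * (t * v' * t⁻¹) by group, ← hv', ht', hcent v' hv'P]
        exact mem_zpowers _
  have hwo : orderOf w = p := orderOf_eq_prime hwp hw1
  haveI : (zpowers w).Normal := by
    rw [← Subgroup.normalizer_eq_top_iff, eq_top_iff]
    have hPle : (P : Subgroup G) ≤ normalizer (zpowers w : Set G) := fun u hu =>
      Subgroup.centralizer_le_normalizer _ (mem_centralizer_iff.mpr fun y hy => by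
        obtain ⟨i, rfl⟩ := mem_zpowers_iff.mp hy
        exact ((show Commute u w from hwc u hu).zpow_right i).eq.symm)
    have htN : t ∈ normalizer (zpowers w : Set G) := by
      refine mem_normalizer_iff.mpr fun y => ⟨fun hy => ?_, fun hy => ?_⟩
      · obtain ⟨i, rfl⟩ := mem_zpowers_iff.mp hy
        rw [← conj_zpow]; exact zpow_mem hwt i
      · obtain ⟨i, hi⟩ := mem_zpowers_iff.mp hy
        rw [show y = t⁻¹ * (t * y * t⁻¹) * t by group, ← hi, htinv]
        nth_rewrite 2 [← htinv]
        rw [← conj_zpow]; exact zpow_mem hwt i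
    intro g _
    by_cases hg : g ∈ (P : Subgroup G)
    · exact hPle hg
    · have htP : t ∉ (P : Subgroup G) := fun h => by
        have := Subgroup.orderOf_dvd_natCard _ h
        rw [ht, hP] at this
        exact hp2 ((Nat.prime_dvd_prime_iff_eq Nat.prime_two hp.out).mp (Nat.prime_two.dvd_of_dvd_pow this)).symm
      have : g * t ∈ (P : Subgroup G) := (Subgroup.mul_mem_iff_of_index_two hidx).mpr ⟨fun h => absurd h hg, fun h => absurd h htP⟩
      rw [show g = g * t * t⁻¹ by group]
      exact mul_mem (hPle this) (inv_mem htN)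
  refine of_cyclic_quotient (zpowers w) (ih (n - 1) (by omega) _ ?_)
  have h := quotient_card (zpowers w)
  rw [hG, Nat.card_zpowers, hwo, show p ^ n = p ^ (n - 1) * p by
    rw [← pow_succ, Nat.sub_add_cancel hn], ← mul_assoc] at h
  exact (Nat.eq_of_mul_eq_mul_right hp.out.pos h).symm

/-- all subgroups satisfy the converse of Lagrange: the largest Sylow is normal -/
theorem normal_sylow_of_hereditary_clt {G : Type u} [Group G] [Finite G]
    (h : ∀ H : Subgroup G, Cfsg.HasSubgroupOfEveryOrder H) (p : ℕ) [hp : Fact p.Prime]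
    (hmax : ∀ q : ℕ, q.Prime → q ∣ Nat.card G → q ≤ p) (P : Sylow p G) : (P : Subgroup G).Normal := by
  suffices ∀ (k : ℕ) (H : Subgroup G), Nat.card H = k → ∀ P : Sylow p H, (P : Subgroup H).Normal by
    haveI hS := this _ ⊤ rfl (P.subtype (le_top))
    have hmap : ((P : Subgroup G).subgroupOf ⊤).map (⊤ : Subgroup G).subtype = P :=
      Subgroup.map_subgroupOf_eq_of_le le_top
    rw [← hmap]
    exact Subgroup.Normal.map hS (⊤ : Subgroup G).subtype fun x => ⟨⟨x, mem_top x⟩, rfl⟩
  intro k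
  induction k using Nat.strong_induction_on with
  | _ k ih =>
  intro H hk P
  rcases eq_or_ne (Nat.card H) 1 with h1 | h1
  · haveI := (Nat.card_eq_one_iff_unique.mp h1).1
    rw [show (P : Subgroup H) = ⊥ from Subsingleton.elim _ _]; infer_instance
  have hq : (Nat.card H).minFac.Prime := Nat.minFac_prime h1
  set q := (Nat.card H).minFac with hqdef
  have hqd : q ∣ Nat.card H := Nat.minFac_dvd _
  rcases eq_or_ne q p with hqp | hqp
  · have hpg : IsPGroup p H := IsPGroup.of_card (n := (Nat.card H).primeFactorsList.length) (by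
      refine Nat.eq_prime_pow_of_unique_prime_dvd Nat.card_pos.ne' fun {r} hr hrd => ?_
      have h1 := Nat.minFac_le_of_dvd hr.two_le hrd
      have h2 := hmax r hr (hrd.trans (Subgroup.card_subgroup_dvd_card H))
      omega)
    rw [show (P : Subgroup H) = ⊤ from
      eq_top_iff.mpr fun x _ => (P.3 (hpg.of_equiv Subgroup.topEquiv.symm) le_top).le (mem_top x)]
    infer_instance
  obtain ⟨c, hc⟩ := hqd
  obtain ⟨K, hK⟩ := h H c ⟨q, by rw [hc, mul_comm]⟩
  have hidx : K.index = q := by
    have := K.index_mul_card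
    rw [hK, hc] at this
    have hc0 : 0 < c := hK ▸ Nat.card_pos
    exact Nat.eq_of_mul_eq_mul_right hc0 this
  haveI : K.Normal := Subgroup.normal_of_index_eq_minFac_card (by rw [hidx])
  have hPK : (P : Subgroup H) ≤ K := by
    intro x hx
    rw [← QuotientGroup.eq_one_iff, ← orderOf_eq_one_iff]
    obtain ⟨j, hj⟩ := P.2 ⟨x, hx⟩
    have h1 : orderOf (x : H ⧸ K) ∣ p ^ j := orderOf_dvd_of_pow_eq_one (by
      have := congrArg (fun y : (P : Subgroup H) => QuotientGroup.mk' K (y : H)) hj
      simpa using this)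
    have h2 : orderOf (x : H ⧸ K) ∣ q := hidx ▸ Subgroup.index_eq_card K ▸ orderOf_dvd_natCard _
    exact Nat.eq_one_of_dvd_coprimes (Nat.Coprime.pow_left j ((Nat.coprime_primes hp.out hq).mpr hqp.symm)) h1 h2
  set K' : Subgroup G := K.map H.subtype with hK'
  let e : K ≃* K' := K.equivMapOfInjective _ H.subtype_injective
  have hlt : Nat.card K' < k := by
    rw [← Nat.card_congr e.toEquiv, ← hk, hK, hc]
    have hc0 : 0 < c := hK ▸ Nat.card_pos
    nlinarith [hq.two_le]
  have hPKn : ((P.subtype hPK : Sylow p K) : Subgroup K).Normal := by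
    let Q : Sylow p K' := (P.subtype hPK).mapSurjective (f := e.toMonoidHom) e.surjective
    haveI : (Q : Subgroup K').Normal := ih _ hlt K' rfl Q
    have e1 : (Q : Subgroup K').comap e.toMonoidHom = ((P.subtype hPK : Sylow p K) : Subgroup K) :=
      Subgroup.comap_map_eq_self_of_injective e.injective _
    rw [← e1]; infer_instance
  haveI := (P.subtype hPK).characteristic_of_normal hPKn
  have := ConjAct.normal_of_characteristic_of_normal (H := K) (K := ((P.subtype hPK : Sylow p K) : Subgroup K))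
  rwa [show ((P.subtype hPK : Sylow p K) : Subgroup K) = (P : Subgroup H).subgroupOf K from rfl,
    Subgroup.map_subgroupOf_eq_of_le hPK] at this

/-- a product of two cyclic groups has a cyclic normal subgroup -/
theorem exists_cyclic_normal_of_prod {G : Type u} [Group G] [Finite G] [Nontrivial G] (A B : Subgroup G)
    [IsCyclic A] [IsCyclic B] (hle : Nat.card B ≤ Nat.card A)
    (hAB : ∀ g : G, ∃ a ∈ A, ∃ b ∈ B, g = a * b) : ∃ D : Subgroup G, D.Normal ∧ D ≠ ⊥ ∧ IsCyclic D := by
  have hA : A ≠ ⊥ := by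
    intro h
    have h1 : Nat.card B ≤ 1 := by rwa [h, Subgroup.card_bot] at hle
    have hB : B = ⊥ := Subgroup.card_eq_one.mp (le_antisymm h1 Nat.card_pos)
    obtain ⟨g, hg⟩ := exists_ne (1 : G)
    obtain ⟨a, ha, b, hb, rfl⟩ := hAB g
    rw [h, mem_bot] at ha
    rw [hB, mem_bot] at hb
    exact hg (by rw [ha, hb, one_mul])
  obtain ⟨b, hb⟩ := (Subgroup.isCyclic_iff_exists_zpowers_eq_top B).mp inferInstance
  set A' := MulAut.conj b • A with hA'
  set D := A ⊓ A' with hD
  haveI : IsCyclic D := Subgroup.isCyclic_of_le inf_le_left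
  -- the intersection is nontrivial
  have hne : D ≠ ⊥ := by
    intro hbot
    let f : A × A → G := fun x => (x.1 : G) * (b * x.2 * b⁻¹)
    have hinj : Function.Injective f := by
      rintro ⟨a1, a2⟩ ⟨c1, c2⟩ h
      change (a1 : G) * (b * a2 * b⁻¹) = c1 * (b * c2 * b⁻¹) at h
      have hm : (c1 : G)⁻¹ * a1 ∈ D := by
        refine mem_inf.mpr ⟨mul_mem (inv_mem c1.2) a1.2, ?_⟩
        rw [show (c1 : G)⁻¹ * a1 = (b * c2 * b⁻¹) * (b * a2 * b⁻¹)⁻¹ by
          rw [eq_mul_inv_iff_mul_eq, mul_assoc, h, inv_mul_cancel_left]]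
        exact mul_mem (Basics.conj_mem_conj_smul c2.2) (inv_mem (Basics.conj_mem_conj_smul a2.2))
      rw [hbot, mem_bot, inv_mul_eq_one] at hm
      rw [hm] at h
      have h2 := mul_left_cancel h
      exact Prod.ext (Subtype.ext hm.symm) (Subtype.ext (mul_left_cancel (mul_right_cancel h2)))
    have hsur : Nat.card G ≤ Nat.card (A × A) := by
      refine le_trans ?_ (show Nat.card A * Nat.card B ≤ Nat.card (A × A) by
        rw [Nat.card_prod]; exact Nat.mul_le_mul_left _ hle)
      rw [← Nat.card_prod]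
      exact Nat.card_le_card_of_surjective (fun x : A × B => (x.1 : G) * x.2) fun g => by
        obtain ⟨a, ha, c, hc, rfl⟩ := hAB g
        exact ⟨(⟨a, ha⟩, ⟨c, hc⟩), rfl⟩
    have hbij : Function.Bijective f := by
      rw [Nat.bijective_iff_injective_and_card]
      exact ⟨hinj, le_antisymm (Nat.card_le_card_of_injective f hinj) hsur⟩
    -- `b⁻¹` lies in `A (b A b⁻¹)`, hence `b` in `A`
    obtain ⟨⟨a1, a2⟩, h⟩ := hbij.2 b⁻¹
    change (a1 : G) * (b * a2 * b⁻¹) = b⁻¹ at h
    have hbA : b ∈ A := by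
      have h1 : (a1 : G) * b * a2 = 1 := by
        calc (a1 : G) * b * a2 = (a1 : G) * (b * a2 * b⁻¹) * b := by group
          _ = 1 := by rw [h, inv_mul_cancel]
      rw [show b = (a1 : G)⁻¹ * ((a1 : G) * b * a2) * (a2 : G)⁻¹ by group, h1, mul_one]
      exact mul_mem (inv_mem a1.2) (inv_mem a2.2)
    have hA'A : A' = A := Basics.conj_smul_eq_self_iff.mpr (Subgroup.le_normalizer hbA)
    rw [hD, hA'A, inf_idem] at hbot
    exact hA hbot
  refine ⟨D, ?_, hne, inferInstance⟩
  -- `b` normalises the intersection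
  have hbD : MulAut.conj b • D = D := by
    have h1 : MulAut.conj b • D ≤ A' := Subgroup.pointwise_smul_le_pointwise_smul_iff.mpr inf_le_left
    haveI : IsCyclic A' := (Subgroup.equivSMul (MulAut.conj b) A).isCyclic.mp inferInstance
    have h2 := LocalEvenB.eq_of_card_eq_of_isCyclic (A := (MulAut.conj b • D).subgroupOf A')
      (B := D.subgroupOf A') (by
        rw [Basics.card_subgroupOf h1, Basics.card_subgroupOf inf_le_right, Basics.card_conj_smul])
    have h3 := congrArg (Subgroup.map A'.subtype) h2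
    rwa [Subgroup.map_subgroupOf_eq_of_le h1, Subgroup.map_subgroupOf_eq_of_le inf_le_right] at h3
  rw [← Subgroup.normalizer_eq_top_iff, eq_top_iff]
  intro g _
  obtain ⟨a, ha, c, hc, rfl⟩ := hAB g
  refine mul_mem ?_ ?_
  · letI := IsCyclic.commGroup (α := A)
    refine Subgroup.centralizer_le_normalizer _ (mem_centralizer_iff.mpr fun y hy => ?_)
    exact congrArg Subtype.val (mul_comm (⟨y, hy.1⟩ : A) ⟨a, ha⟩)
  · rw [← hb] at hc
    exact zpowers_le.mpr (Basics.conj_smul_eq_self_iff.mp hbD) hc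

end Cfsg.Agent.Supersolv
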