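import Cfsg.Agent.Lib.Supersolv.Orders
import Cfsg.Agent.Lib.Basics.CoprimeAction
import Cfsg.Agent.Lib.Basics.Frattini

/-!
Huppert's criterion and hereditary converse of Lagrange.
-/

set_option autoImplicit false
set_option linter.style.haveILetI false

namespace Cfsg.Agent.Supersolv

open Subgroup
open scoped Pointwise commutatorElement

universe u

/-- every maximal subgroup has prime index -/
def MaxPrime (G : Type u) [Group G] : Prop := ∀ M : Subgroup G, IsCoatom M → M.index.Prime

theorem MaxPrime.quotient {G : Type u} [Group G] (h : MaxPrime G) (N : Subgroup G) [N.Normal] :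
    MaxPrime (G ⧸ N) := by
  intro M hM
  have hsur := QuotientGroup.mk'_surjective N
  have hc : IsCoatom (M.comap (QuotientGroup.mk' N)) := by
    refine ⟨fun e => hM.1 ?_, fun X hX => ?_⟩
    · rw [← Subgroup.map_comap_eq_self_of_surjective hsur M, e, Subgroup.map_top_of_surjective _ hsur]
    · have hN : (QuotientGroup.mk' N).ker ≤ X := (Subgroup.ker_le_comap _ M).trans hX.le
      have e := Subgroup.comap_map_eq_self hN
      have h2 : M < X.map (QuotientGroup.mk' N) := by
        rw [← Subgroup.comap_lt_comap_of_surjective hsur, e]; exact hX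
      rw [← e, hM.2 _ h2, Subgroup.comap_top]
  have := h _ hc
  rwa [Subgroup.index_comap_of_surjective _ hsur] at this

variable {G : Type u} [Group G] [Finite G]

theorem exists_largest [Nontrivial G] : ∃ p : ℕ, p.Prime ∧ p ∣ Nat.card G ∧
    ∀ r : ℕ, r.Prime → r ∣ Nat.card G → r ≤ p := by
  have hne : (Nat.card G).primeFactors.Nonempty := Nat.nonempty_primeFactors.mpr Finite.one_lt_card
  have hpm := (Nat.card G).primeFactors.max'_mem hne
  exact ⟨_, Nat.prime_of_mem_primeFactors hpm, Nat.dvd_of_mem_primeFactors hpm,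
    fun r hr hd => Finset.le_max' _ r (Nat.mem_primeFactors.mpr ⟨hr, hd, Nat.card_pos.ne'⟩)⟩

theorem MaxPrime.sylow_normal (h : MaxPrime G) (p : ℕ) [hp : Fact p.Prime]
    (hmax : ∀ r : ℕ, r.Prime → r ∣ Nat.card G → r ≤ p) (P : Sylow p G) : (P : Subgroup G).Normal := by
  by_contra hn
  have hne : normalizer ((P : Subgroup G) : Set G) ≠ ⊤ := fun e => hn (normalizer_eq_top_iff.mp e)
  obtain ⟨M, hM, hle⟩ := (eq_top_or_exists_le_coatom _).resolve_left hne
  have hq := h M hM
  have hPM : (P : Subgroup G) ≤ M := le_normalizer.trans hle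
  have h1 : (normalizer ((P : Subgroup G) : Set G)).index % p = 1 % p := by
    have e : Nat.card (Sylow p G) = (normalizer ((P : Subgroup G) : Set G)).index := P.card_eq_index_normalizer
    rw [← e]; exact card_sylow_modEq_one p G
  have h2 : (normalizer ((P : Subgroup G) : Set G)).relIndex M % p = 1 % p := by
    have e : Nat.card (Sylow p M) = (normalizer (((P.subtype hPM : Sylow p M) : Subgroup M) : Set M)).index :=
      (P.subtype hPM).card_eq_index_normalizer
    have e2 : normalizer (((P.subtype hPM : Sylow p M) : Subgroup M) : Set M) =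
        (normalizer ((P : Subgroup G) : Set G)).subgroupOf M :=
      (Subgroup.subgroupOf_normalizer_eq hPM).symm
    rw [Subgroup.relIndex, ← e2, ← e]
    exact card_sylow_modEq_one p M
  have h3 : M.index % p = 1 := by
    rw [← Subgroup.relIndex_mul_index hle, Nat.mul_mod, h2, Nat.one_mod_eq_one.mpr hp.out.one_lt.ne', one_mul,
      Nat.mod_mod] at h1
    exact h1
  rcases (hmax _ hq M.index_dvd_card).lt_or_eq with hl | he
  · rw [Nat.mod_eq_of_lt hl] at h3
    exact hq.one_lt.ne' h3
  · rw [he, Nat.mod_self] at h3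
    exact zero_ne_one h3

theorem MaxPrime.isSolvable (h : MaxPrime G) : Group.IsSolvable G := by
  suffices ∀ (n : ℕ) (G : Type u) [Group G] [Finite G], Nat.card G = n → MaxPrime G →
      Group.IsSolvable G from this _ G rfl h
  intro n
  induction n using Nat.strong_induction_on with
  | _ n ih =>
  intro G _ _ hn h
  rcases subsingleton_or_nontrivial G with hs | hs
  · infer_instance
  obtain ⟨p, hp, hpd, hmax⟩ := exists_largest (G := G)
  haveI := Fact.mk hp
  obtain ⟨P⟩ := (inferInstance : Nonempty (Sylow p G))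
  haveI := h.sylow_normal p hmax P
  have hPne : (P : Subgroup G) ≠ ⊥ := fun e => by
    have := P.dvd_card_of_dvd_card hpd
    rw [e, Subgroup.card_bot] at this
    exact hp.not_dvd_one this
  haveI := ih _ (hn ▸ Basics.card_quotient_lt hPne) (G ⧸ (P : Subgroup G)) rfl (h.quotient _)
  haveI : Group.IsNilpotent (P : Subgroup G) := P.2.isNilpotent
  exact Group.isSolvable_of_ker_le_range (P : Subgroup G).subtype (QuotientGroup.mk' (P : Subgroup G))
    (by simp)

/-- Huppert's criterion -/
theorem MaxPrime.isSupersolvable (h : MaxPrime G) : Cfsg.IsSupersolvable G := by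
  suffices ∀ (n : ℕ) (G : Type u) [Group G] [Finite G], Nat.card G = n → MaxPrime G →
      Cfsg.IsSupersolvable G from this _ G rfl h
  intro n
  induction n using Nat.strong_induction_on with
  | _ n ih =>
  intro G _ _ hn h
  rcases subsingleton_or_nontrivial G with hs | hs
  · exact of_subsingleton
  haveI := h.isSolvable
  obtain ⟨N, hNn, -, hNne, hmin⟩ := Basics.exists_minimal_normal (N := (⊤ : Subgroup G)) top_ne_bot
  haveI := hNn
  obtain ⟨hNab, p1, hp1, -, hN1⟩ := Basics.minimal_normal_solvable hNne inferInstance hmin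
  have ihN := ih _ (hn ▸ Basics.card_quotient_lt hNne) (G ⧸ N) rfl (h.quotient N)
  by_cases hNF : N ≤ frattini G
  swap
  · obtain ⟨M, hM, hNM⟩ : ∃ M : Subgroup G, IsCoatom M ∧ ¬ N ≤ M := by
      by_contra hall
      push Not at hall
      exact hNF (le_iInf₂ fun M hM => hall M hM)
    have hsup := Basics.le_of_not_le_sup_eq_top hM hNM
    haveI : (N ⊓ M).Normal := by
      rw [← normalizer_eq_top_iff, eq_top_iff, ← hsup, sup_le_iff]
      refine ⟨fun m hm => ?_, fun x hx => Subgroup.centralizer_le_normalizer _ (mem_centralizer_iff.mpr fun y hy => ?_)⟩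
      · refine mem_normalizer_iff.mpr fun y => ?_
        have hmN : m ∈ normalizer (N : Set G) := le_normalizer_of_normal (mem_top m)
        have e : m * y * m⁻¹ ∈ M ↔ y ∈ M :=
          ⟨fun h => by simpa [mul_assoc] using mul_mem (mul_mem (inv_mem hm) h) hm,
            fun h => mul_mem (mul_mem hm h) (inv_mem hm)⟩
        simp only [mem_inf]
        rw [← mem_normalizer_iff.mp hmN y, e]
      · exact congrArg Subtype.val (hNab.is_comm.comm ⟨y, hy.1⟩ ⟨x, hx⟩)
    have hinf : N ⊓ M = ⊥ := (hmin _ inferInstance inf_le_left).resolve_right fun e => hNM (inf_eq_left.mp e)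
    have hcomp : Subgroup.IsComplement' N M := Subgroup.isComplement'_of_disjoint_and_mul_eq_univ
      (disjoint_iff.mpr hinf) (by rw [← Subgroup.normal_mul, sup_comm, hsup]; rfl)
    haveI := Fact.mk (h M hM)
    haveI : IsCyclic N := isCyclic_of_prime_card hcomp.index_eq_card.symm
    exact of_cyclic_quotient N ihN
  by_cases hunique : ∀ K : Subgroup G, K.Normal → K ≠ ⊥ → N ≤ K
  swap
  · push Not at hunique
    obtain ⟨K, hK, hKne, hNK⟩ := hunique
    haveI := hK
    have hinf : N ⊓ K = ⊥ := (hmin _ inferInstance inf_le_left).resolve_right fun e => hNK (inf_eq_left.mp e)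
    refine of_injective ((QuotientGroup.mk' N).prod (QuotientGroup.mk' K)) ?_
      (prod ihN (ih _ (hn ▸ Basics.card_quotient_lt hKne) (G ⧸ K) rfl (h.quotient K)))
    refine (MonoidHom.ker_eq_bot_iff _).mp ?_
    rw [MonoidHom.ker_prod, QuotientGroup.ker_mk', QuotientGroup.ker_mk', hinf]
  obtain ⟨p, hp, hpd, hmax⟩ := exists_largest (G := G)
  haveI := Fact.mk hp
  obtain ⟨P⟩ := (inferInstance : Nonempty (Sylow p G))
  haveI := h.sylow_normal p hmax P
  have hPne : (P : Subgroup G) ≠ ⊥ := fun e => by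
    have := P.dvd_card_of_dvd_card hpd
    rw [e, Subgroup.card_bot] at this
    exact hp.not_dvd_one this
  have hNP : N ≤ (P : Subgroup G) := hunique _ inferInstance hPne
  have hNp : IsPGroup p N := P.2.to_le hNP
  have hcore : Cfsg.pPrimeCore p G = ⊥ := by
    by_contra hne
    have h1 := Subgroup.card_dvd_of_le (hunique _ inferInstance hne)
    obtain ⟨j, hj0, hj⟩ := hNp.nontrivial_iff_card.mp (N.nontrivial_iff_ne_bot.mpr hNne)
    exact Basics.not_dvd_card_pPrimeCore p ((dvd_pow_self p (by omega)).trans (hj ▸ h1))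
  have hPcore : Cfsg.pCore p G = P := le_antisymm (Basics.pCore_le_sylow p P) (Basics.le_pCore P.2)
  have hcent : centralizer ((P : Subgroup G) : Set G) ≤ P := hPcore ▸ Basics.centralizer_pCore_le hcore
  -- the kernel of the action on the sections of order `p`
  obtain ⟨hMn, hcomm, hexp, hact⟩ := LocalEvenB.actTrivial_spec (G := G) (p := p)
  set M := LocalEvenB.actTrivial (G := G) p
  haveI := hMn
  obtain ⟨K, hK⟩ := Subgroup.exists_right_complement'_of_coprime (N := (P : Subgroup G)) P.card_coprime_index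
  set K0 := M ⊓ K with hK0
  have hKcard : Nat.card K = (P : Subgroup G).index := hK.symm.index_eq_card.symm
  have hcop : (Nat.card K0).Coprime (Nat.card (P : Subgroup G)) :=
    (P.card_coprime_index.symm.coprime_dvd_left (hKcard ▸ Subgroup.card_dvd_of_le inf_le_right))
  have hC : (P : Subgroup G) ≤ ((P : Subgroup G) ⊓ centralizer (K0 : Set G)) ⊔ N := by
    obtain ⟨k, S, S0, Sl, Sn, Ss, -, -⟩ := exists_prime_chain ihN (Nat.card (G ⧸ N))
      fun r _ hd => Nat.le_of_dvd Nat.card_pos hd
    have key : ∀ i, (S i).comap (QuotientGroup.mk' N) ⊓ (P : Subgroup G) ≤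
        ((P : Subgroup G) ⊓ centralizer (K0 : Set G)) ⊔ N := by
      intro i
      induction i using Fin.induction with
      | zero =>
        rw [S0, MonoidHom.comap_bot, QuotientGroup.ker_mk']
        exact inf_le_left.trans le_sup_right
      | succ i ih' =>
        haveI := Sn i.castSucc
        haveI := Sn i.succ
        set A := (S i.castSucc).comap (QuotientGroup.mk' N) with hA
        set B := (S i.succ).comap (QuotientGroup.mk' N) with hB
        have hAB : A ≤ B := Subgroup.comap_mono (Ss i).1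
        set T := A ⊓ (P : Subgroup G) with hT
        set T' := B ⊓ (P : Subgroup G) with hT'
        haveI : A.Normal := (Sn _).comap _
        haveI : B.Normal := (Sn _).comap _
        have hTT : T ≤ T' := inf_le_inf_right _ hAB
        have hr : (A.relIndex B).Prime := by
          rw [hA, hB, Subgroup.relIndex_comap,
            Subgroup.map_comap_eq_self_of_surjective (QuotientGroup.mk'_surjective N)]
          exact (Ss i).2
        have hdvd : A.relIndex T' ∣ A.relIndex B := by
          rw [← QuotientGroup.ker_mk' A, Subgroup.relIndex_ker, Subgroup.relIndex_ker]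
          exact Subgroup.card_dvd_of_le (Subgroup.map_mono inf_le_left)
        have hrel : T.relIndex T' = A.relIndex T' := by
          unfold Subgroup.relIndex
          congr 1
          ext ⟨x, hx⟩
          simp [mem_subgroupOf, hT, (mem_inf.mp hx).2]
        have hcardT : Nat.card T * T.relIndex T' = Nat.card T' := by
          rw [← Basics.card_subgroupOf hTT]; exact Subgroup.card_mul_index _
        rcases (Nat.dvd_prime hr).mp hdvd with h1 | h1
        · have e : T = T' := Subgroup.eq_of_le_of_card_ge hTT (by rw [← hcardT, hrel, h1, mul_one])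
          rw [← e]; exact ih'
        have hrp : T.relIndex T' = p := by
          rw [hrel, h1]
          obtain ⟨j, hj⟩ := (P.2.to_le (inf_le_right : T' ≤ _)).exists_card_eq
          refine (Nat.prime_dvd_prime_iff_eq hr hp).mp (hr.dvd_of_dvd_pow (n := j) ?_)
          rw [← hj, ← hcardT, hrel, h1]
          exact dvd_mul_left _ _
        intro w hw
        obtain ⟨c, hc, hwc⟩ := Basics.exists_inf_centralizer_mem_coset K0 (P : Subgroup G) T inf_le_right
          (le_normalizer_of_normal) (le_normalizer_of_normal) hcop (Or.inl inferInstance) w hw.2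
          (fun a ha => hact a ha.1 T T' inferInstance inferInstance hTT (by rw [← hrp, hcardT]) w hw)
        rw [show w = c * (w⁻¹ * c)⁻¹ by group]
        exact mul_mem (mem_sup_left hc) (inv_mem (ih' hwc))
    have := key (Fin.last k)
    rwa [Sl, Subgroup.comap_top, top_inf_eq] at this
  set C := (P : Subgroup G) ⊓ centralizer (K0 : Set G) with hCdef
  have hKC : K ≤ normalizer (C : Set G) := by
    intro k hk
    have hK0 : ∀ k ∈ K, ∀ a ∈ K0, k * a * k⁻¹ ∈ K0 := fun k hk a ha =>
      ⟨hMn.conj_mem a ha.1 k, K.mul_mem (K.mul_mem hk ha.2) (K.inv_mem hk)⟩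
    have hone : ∀ k ∈ K, ∀ x ∈ C, k * x * k⁻¹ ∈ C := fun k hk x hx => by
      refine ⟨(inferInstance : (P : Subgroup G).Normal).conj_mem x hx.1 k, mem_centralizer_iff.mpr fun a ha => ?_⟩
      have h1 := mem_centralizer_iff.mp hx.2 _ (hK0 k⁻¹ (inv_mem hk) a ha)
      rw [inv_inv] at h1
      calc a * (k * x * k⁻¹) = k * ((k⁻¹ * a * k) * x) * k⁻¹ := by group
        _ = k * (x * (k⁻¹ * a * k)) * k⁻¹ := by rw [h1]
        _ = k * x * k⁻¹ * a := by group
    refine mem_normalizer_iff.mpr fun x => ⟨hone k hk x, fun hx => ?_⟩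
    have := hone k⁻¹ (inv_mem hk) _ hx
    rwa [show k⁻¹ * (k * x * k⁻¹) * k⁻¹⁻¹ = x by group] at this
  have hCK : C ⊔ K = ⊤ := by
    refine frattini_nongenerating (eq_top_iff.mpr ?_)
    rw [← hK.sup_eq_top]
    exact sup_le (hC.trans (sup_le (le_sup_left.trans le_sup_left) (hNF.trans le_sup_right)))
      (le_sup_right.trans le_sup_left)
  have hPC : (P : Subgroup G) ≤ C := by
    intro x hx
    have hx' : x ∈ C ⊔ K := hCK ▸ mem_top x
    obtain ⟨c, hc, k, hk, rfl⟩ := (Basics.mem_sup_of_le_normalizer hKC).mp hx'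
    have hkP : k ∈ (P : Subgroup G) ⊓ K := ⟨(Subgroup.mul_mem_cancel_left _ hc.1).mp hx, hk⟩
    rw [hK.disjoint.eq_bot, mem_bot] at hkP
    rw [hkP, mul_one]; exact hc
  have hK0bot : K0 = ⊥ := by
    rw [eq_bot_iff]
    intro a ha
    have h1 : a ∈ centralizer ((P : Subgroup G) : Set G) := mem_centralizer_iff.mpr fun x hx =>
      (mem_centralizer_iff.mp (hPC hx).2 a ha).symm
    have h2 : a ∈ (P : Subgroup G) ⊓ K := ⟨hcent h1, ha.2⟩
    rwa [hK.disjoint.eq_bot] at h2
  have hMp : IsPGroup p M := by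
    have hd : Nat.card K ∣ M.index := by
      rw [Subgroup.index_eq_card]
      refine Subgroup.card_dvd_of_injective ((QuotientGroup.mk' M).comp K.subtype)
        ((injective_iff_map_eq_one _).mpr fun u hu => Subtype.ext ?_)
      have h1 : (u : G) ∈ K0 := ⟨(QuotientGroup.eq_one_iff _).mp hu, u.2⟩
      rwa [hK0bot, mem_bot] at h1
    obtain ⟨c, hc⟩ := hd
    obtain ⟨j, hj⟩ := P.2.exists_card_eq
    have e := M.card_mul_index
    rw [hc, ← (P : Subgroup G).card_mul_index, ← hKcard, mul_comm (Nat.card (P : Subgroup G)),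
      mul_left_comm] at e
    have h2 : Nat.card M ∣ p ^ j := ⟨c, by rw [← hj]; exact (Nat.eq_of_mul_eq_mul_left Nat.card_pos e).symm⟩
    obtain ⟨i, -, hi⟩ := (Nat.dvd_prime_pow hp).mp h2
    exact IsPGroup.of_card hi
  refine LocalEvenB.isSupersolvable_of_cycReach (LocalEvenB.cycReach_top_of_quotient N ihN
    (LocalEvenB.cycReach_of_centralized (p := p) hNp hcomm hexp fun m hm hmp y _ => ?_))
  obtain ⟨j, hj⟩ := hMp ⟨m, hm⟩
  have hm1 : m = 1 := orderOf_eq_one_iff.mp (Nat.eq_one_of_dvd_coprimes (hmp.pow_right j) dvd_rfl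
    (orderOf_dvd_of_pow_eq_one (congrArg Subtype.val hj)))
  rw [hm1]; exact Commute.one_left y

theorem hereditary_congr {G H : Type u} [Group G] [Group H] (e : G ≃* H)
    (h : Cfsg.HasSubgroupOfEveryOrder G) : Cfsg.HasSubgroupOfEveryOrder H := by
  intro d hd
  obtain ⟨K, hK⟩ := h d (by rwa [Nat.card_congr e.toEquiv])
  exact ⟨K.map e.toMonoidHom, by rw [Subgroup.card_map_of_injective e.injective, hK]⟩

/-- If every subgroup satisfies the converse of Lagrange, the group is supersolvable. -/
theorem of_hereditary_clt (h : ∀ H : Subgroup G, Cfsg.HasSubgroupOfEveryOrder H) :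
    Cfsg.IsSupersolvable G := by
  suffices ∀ (n : ℕ) (G : Type u) [Group G] [Finite G], Nat.card G = n →
      (∀ H : Subgroup G, Cfsg.HasSubgroupOfEveryOrder H) → Cfsg.IsSupersolvable G from this _ G rfl h
  intro n
  induction n using Nat.strong_induction_on with
  | _ n ih =>
  intro G _ _ hn h
  rcases subsingleton_or_nontrivial G with hs | hs
  · exact of_subsingleton
  have hprop : ∀ H : Subgroup G, H ≠ ⊤ → Cfsg.IsSupersolvable H := fun H hH =>
    ih _ (hn ▸ Basics.card_lt_card_of_ne_top hH) H rfl fun K =>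
      hereditary_congr (K.equivMapOfInjective _ H.subtype_injective).symm (h (K.map H.subtype))
  obtain ⟨p, hp, hpd, hmax⟩ := exists_largest (G := G)
  haveI := Fact.mk hp
  obtain ⟨P⟩ := (inferInstance : Nonempty (Sylow p G))
  haveI := normal_sylow_of_hereditary_clt h p hmax P
  refine MaxPrime.isSupersolvable fun M hM => ?_
  by_cases hPM : (P : Subgroup G) ≤ M
  · obtain ⟨K, hK⟩ := Subgroup.exists_right_complement'_of_coprime (N := (P : Subgroup G)) P.card_coprime_index
    have hKne : K ≠ ⊤ := fun e => by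
      have h1 := (hK.disjoint.eq_bot)
      rw [e, inf_top_eq] at h1
      have := P.dvd_card_of_dvd_card hpd
      rw [h1, Subgroup.card_bot] at this
      exact hp.not_dvd_one this
    have hq : Cfsg.IsSupersolvable (G ⧸ (P : Subgroup G)) :=
      congr (hK.symm.QuotientMulEquiv).symm (hprop K hKne)
    have hsur := QuotientGroup.mk'_surjective (P : Subgroup G)
    have hback := Subgroup.comap_map_eq_self (H := M) (f := QuotientGroup.mk' (P : Subgroup G))
      (by rw [QuotientGroup.ker_mk']; exact hPM)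
    have hco : IsCoatom (M.map (QuotientGroup.mk' (P : Subgroup G))) := by
      refine ⟨fun e => hM.1 (by rw [← hback, e, Subgroup.comap_top]), fun X hX => ?_⟩
      have h2 := hM.2 (X.comap _) (hback ▸ (Subgroup.comap_lt_comap_of_surjective hsur).mpr hX)
      rw [← Subgroup.map_comap_eq_self_of_surjective hsur X, h2, Subgroup.map_top_of_surjective _ hsur]
    have := coatom_index_prime hq _ hco
    rwa [← Subgroup.index_comap_of_surjective _ hsur, hback] at this
  have hsup := Basics.le_of_not_le_sup_eq_top hM hPM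
  -- a subgroup of index `p`
  obtain ⟨c, hc⟩ := hpd
  have htop : Cfsg.HasSubgroupOfEveryOrder G := hereditary_congr Subgroup.topEquiv (h ⊤)
  obtain ⟨M1, hM1c⟩ := htop c ⟨p, by rw [hc, mul_comm]⟩
  have hidx1 : M1.index = p := by
    have e := M1.index_mul_card
    rw [hM1c, hc] at e
    exact Nat.eq_of_mul_eq_mul_right (hM1c ▸ Nat.card_pos) e
  have hPM1 : ¬ (P : Subgroup G) ≤ M1 := fun hle => P.not_dvd_index (by
    have h := Subgroup.index_dvd_of_le hle
    rwa [hidx1] at h)
  have hsup1 : M1 ⊔ (P : Subgroup G) = ⊤ := by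
    refine Subgroup.index_eq_one.mp (((Nat.dvd_prime hp).mp (by
      have h := Subgroup.index_dvd_of_le (le_sup_left : M1 ≤ M1 ⊔ (P : Subgroup G))
      rwa [hidx1] at h)).resolve_right
      fun e => hPM1 ?_)
    have e2 : M1 = M1 ⊔ (P : Subgroup G) := by
      refine Subgroup.eq_of_le_of_card_ge le_sup_left (le_of_eq ?_)
      have a1 := (M1 ⊔ (P : Subgroup G)).index_mul_card
      rw [e, ← M1.index_mul_card, hidx1] at a1
      exact Nat.eq_of_mul_eq_mul_left hp.pos a1
    rw [e2]; exact le_sup_right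
  -- relative indices against the normal subgroup `P`
  have hrel : ∀ (X Y : Subgroup G), X.Normal → Y ⊔ X = ⊤ → Y.relIndex X = Y.index := by
    intro X Y hX hXY
    haveI := hX
    have e := Basics.card_mul_card_eq_card_sup_mul_card_inf (N := X) (H := Y) le_normalizer_of_normal
    rw [sup_comm, hXY, Subgroup.card_top, ← Y.index_mul_card] at e
    have e2 : Nat.card (Y ⊓ X : Subgroup G) * Y.relIndex X = Nat.card X := by
      rw [← Subgroup.inf_relIndex_right, ← Basics.card_subgroupOf (inf_le_right : Y ⊓ X ≤ X)]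
      exact Subgroup.card_mul_index _
    rw [← e2, inf_comm X Y, mul_comm (Nat.card (Y ⊓ X : Subgroup G)) (Y.relIndex X)] at e
    refine Nat.eq_of_mul_eq_mul_right (Nat.mul_pos (Nat.card_pos (α := (Y ⊓ X : Subgroup G))) (Nat.card_pos (α := Y))) ?_
    linear_combination e
  set P1 := (P : Subgroup G) ⊓ M1 with hP1
  have hP1i : P1.relIndex (P : Subgroup G) = p := by
    rw [hP1, inf_comm, Subgroup.inf_relIndex_right, hrel _ _ inferInstance hsup1, hidx1]
  haveI hP1n : P1.Normal := by
    rw [← normalizer_eq_top_iff, eq_top_iff, ← hsup1, sup_le_iff]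
    constructor
    · intro m hm
      refine mem_normalizer_iff.mpr fun y => ?_
      have hmP : m ∈ normalizer ((P : Subgroup G) : Set G) := le_normalizer_of_normal (mem_top m)
      have e : m * y * m⁻¹ ∈ M1 ↔ y ∈ M1 :=
        ⟨fun h => by simpa [mul_assoc] using mul_mem (mul_mem (inv_mem hm) h) hm,
          fun h => mul_mem (mul_mem hm h) (inv_mem hm)⟩
      simp only [hP1, mem_inf]
      rw [← mem_normalizer_iff.mp hmP y, e]
    · haveI : (P1.subgroupOf (P : Subgroup G)).Normal := by
        refine Subgroup.normal_of_index_eq_minFac_card ?_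
        show P1.relIndex (P : Subgroup G) = _
        obtain ⟨j, hj⟩ := P.2.exists_card_eq
        have hj0 : j ≠ 0 := fun e => by
          have := Subgroup.relIndex_dvd_card P1 (P : Subgroup G)
          rw [hP1i, hj, e, pow_zero] at this
          exact hp.not_dvd_one this
        rw [hP1i, hj, hp.pow_minFac hj0]
      exact le_normalizer_of_normal_subgroupOf inf_le_left
  set D := (P : Subgroup G) ⊓ M with hD
  -- `M` contains the commutator subgroup of `P`
  have hPcomm : ⁅(P : Subgroup G), (P : Subgroup G)⁆ ≤ M := by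
    haveI : (⁅(P : Subgroup G), (P : Subgroup G)⁆).Normal := Subgroup.commutator_normal _ _
    by_contra hcon
    have hs := Basics.le_of_not_le_sup_eq_top hM hcon
    haveI : Group.IsNilpotent (P : Subgroup G) := P.2.isNilpotent
    have hF : M.subgroupOf (P : Subgroup G) ⊔ frattini (P : Subgroup G) = ⊤ := by
      rw [eq_top_iff]
      rintro ⟨x, hx⟩ -
      have hx' : x ∈ ⁅(P : Subgroup G), (P : Subgroup G)⁆ ⊔ M := by rw [sup_comm, hs]; trivial
      obtain ⟨d, hd, m, hm, rfl⟩ := mem_sup_of_normal_left.mp hx'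
      have hdP : d ∈ (P : Subgroup G) := (Subgroup.commutator_le_left _ _) hd
      have hmP : m ∈ (P : Subgroup G) := by simpa using mul_mem (inv_mem hdP) hx
      have hdF : (⟨d, hdP⟩ : (P : Subgroup G)) ∈ frattini (P : Subgroup G) := by
        rw [← Subgroup.map_subtype_commutator] at hd
        obtain ⟨d', hd', e⟩ := hd
        rw [show (⟨d, hdP⟩ : (P : Subgroup G)) = d' from Subtype.ext e.symm]
        exact Basics.commutator_le_frattini hd'
      exact mul_mem (mem_sup_right hdF) (mem_sup_left (show (⟨m, hmP⟩ : (P : Subgroup G)) ∈ M.subgroupOf _ from hm))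
    exact hPM (Subgroup.subgroupOf_eq_top.mp (frattini_nongenerating hF))
  have hMidx : D.relIndex (P : Subgroup G) = M.index := by
    rw [hD, inf_comm, Subgroup.inf_relIndex_right, hrel _ _ inferInstance hsup]
  by_cases hP1D : P1 ≤ D
  · rw [← hMidx]
    have hd := Subgroup.relIndex_dvd_of_le_left (L := (P : Subgroup G)) hP1D
    rw [hP1i] at hd
    rcases (Nat.dvd_prime hp).mp hd with e | e
    · exact absurd (Subgroup.relIndex_eq_one.mp e |>.trans inf_le_right) hPM
    · rw [e]; exact hp
  have hMP1 : M ⊔ P1 = ⊤ := Basics.le_of_not_le_sup_eq_top hM fun h => hP1D (le_inf inf_le_left h)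
  -- a complement of `P` inside `M`
  have hDc : (Nat.card (D.subgroupOf M)).Coprime (D.subgroupOf M).index := by
    show (Nat.card (D.subgroupOf M)).Coprime (D.relIndex M)
    rw [Basics.card_subgroupOf inf_le_right, hD, Subgroup.inf_relIndex_right]
    obtain ⟨j, hj⟩ := P.2.exists_card_eq
    refine Nat.Coprime.coprime_dvd_left (hj ▸ Subgroup.card_dvd_of_le inf_le_left) ?_
    refine Nat.Coprime.pow_left j (hp.coprime_iff_not_dvd.mpr fun e => P.not_dvd_index ?_)
    exact e.trans (Subgroup.relIndex_dvd_index_of_normal (P : Subgroup G) M)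
  haveI : (D.subgroupOf M).Normal := by
    rw [hD, Subgroup.inf_subgroupOf_right]; infer_instance
  obtain ⟨K', hK'⟩ := Subgroup.exists_right_complement'_of_coprime hDc
  set K := K'.map M.subtype with hKdef
  have hKM : K ≤ M := Subgroup.map_subtype_le _
  have hMDK : M ≤ D ⊔ K := by
    intro m hm
    have h1 : (⟨m, hm⟩ : M) ∈ D.subgroupOf M ⊔ K' := hK'.sup_eq_top ▸ mem_top _
    obtain ⟨d, hd, k, hk, e⟩ := mem_sup_of_normal_left.mp h1
    rw [show m = (d : G) * (k : G) from (congrArg Subtype.val e).symm]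
    exact mul_mem (mem_sup_left hd) (mem_sup_right (mem_map_of_mem _ hk))
  have hKP : K ⊓ (P : Subgroup G) = ⊥ := by
    rw [eq_bot_iff]
    rintro _ ⟨⟨k, hk, rfl⟩, hkP⟩
    have h1 : k ∈ D.subgroupOf M ⊓ K' := ⟨⟨hkP, k.2⟩, hk⟩
    rw [hK'.disjoint.eq_bot, mem_bot] at h1
    rw [h1]; exact one_mem _
  set X := P1 ⊔ K with hX
  have hXne : X ≠ ⊤ := by
    intro e
    have hle : (P : Subgroup G) ≤ P1 := fun x hx => by
      have hx' : x ∈ P1 ⊔ K := (hX ▸ e) ▸ mem_top x
      obtain ⟨a, ha, k, hk, rfl⟩ := mem_sup_of_normal_left.mp hx'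
      have : k ∈ K ⊓ (P : Subgroup G) := ⟨hk, (Subgroup.mul_mem_cancel_left _ ha.1).mp hx⟩
      rw [hKP, mem_bot] at this
      rw [this, mul_one]; exact ha
    exact hPM1 (hle.trans inf_le_right)
  have hco : IsCoatom (M.subgroupOf X) := by
    refine ⟨fun e => hP1D (le_inf inf_le_left (le_sup_left.trans (Subgroup.subgroupOf_eq_top.mp e))), fun Y hY => ?_⟩
    set Y' := Y.map X.subtype with hY'
    have hYX : Y' ≤ X := Subgroup.map_subtype_le _
    have hMY : M ⊓ X ≤ Y' := fun x hx => ⟨⟨x, hx.2⟩, hY.le (show (⟨x, hx.2⟩ : X) ∈ M.subgroupOf X from hx.1), rfl⟩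
    have hKY : K ≤ Y' := fun k hk => hMY ⟨hKM hk, mem_sup_right hk⟩
    set Z := Y' ⊓ P1 with hZ
    have hP1K : ∀ x ∈ X, ∃ a ∈ P1, ∃ k ∈ K, x = a * k := fun x hx => by
      obtain ⟨a, ha, k, hk, e⟩ := mem_sup_of_normal_left.mp (hX ▸ hx : x ∈ P1 ⊔ K)
      exact ⟨a, ha, k, hk, e.symm⟩
    have hPK : (P : Subgroup G) ⊔ K = ⊤ := by
      rw [eq_top_iff, ← hsup]
      exact sup_le (hMDK.trans (sup_le_sup_right inf_le_left _)) le_sup_left
    haveI : Z.Normal := by
      rw [← normalizer_eq_top_iff, eq_top_iff, ← hPK, sup_le_iff]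
      have hone : ∀ g, (g ∈ (P : Subgroup G) ∨ g ∈ K) → ∀ z ∈ Z, g * z * g⁻¹ ∈ Z := by
        rintro g (hg | hg) z hz
        · rw [show g * z * g⁻¹ = ⁅g, z⁆ * z by rw [commutatorElement_def, inv_mul_cancel_right]]
          have hc1 : ⁅g, z⁆ ∈ M := hPcomm (Subgroup.commutator_mem_commutator hg hz.2.1)
          have hc2 : ⁅g, z⁆ ∈ P1 := by
            rw [commutatorElement_def]
            exact mul_mem (hP1n.conj_mem z hz.2 g) (inv_mem hz.2)
          exact mul_mem ⟨hMY ⟨hc1, mem_sup_left hc2⟩, hc2⟩ hz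
        · exact ⟨Y'.mul_mem (Y'.mul_mem (hKY hg) hz.1) (Y'.inv_mem (hKY hg)), hP1n.conj_mem z hz.2 g⟩
      constructor <;> intro g hg <;> refine mem_normalizer_iff.mpr fun z => ⟨?_, fun hz => ?_⟩
      · exact hone g (Or.inl hg) z
      · have := hone g⁻¹ (Or.inl (inv_mem hg)) _ hz
        rwa [show g⁻¹ * (g * z * g⁻¹) * g⁻¹⁻¹ = z by group] at this
      · exact hone g (Or.inr hg) z
      · have := hone g⁻¹ (Or.inr (inv_mem hg)) _ hz
        rwa [show g⁻¹ * (g * z * g⁻¹) * g⁻¹⁻¹ = z by group] at this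
    have hZM : ¬ Z ≤ M := by
      intro hle
      refine hY.2 fun y hy => ?_
      have hyY : (y : G) ∈ Y' := mem_map_of_mem _ hy
      obtain ⟨a, ha, k, hk, e⟩ := hP1K _ y.2
      have haZ : a ∈ Z := ⟨by rw [show a = (y : G) * k⁻¹ by rw [e, mul_inv_cancel_right]]
                              exact Y'.mul_mem hyY (Y'.inv_mem (hKY hk)), ha⟩
      show (y : G) ∈ M
      rw [e]
      exact mul_mem (hle haZ) (hKM hk)
    have hZM' := Basics.le_of_not_le_sup_eq_top hM hZM
    rw [eq_top_iff]
    rintro ⟨x, hx⟩ -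
    obtain ⟨z, hz, m, hm, e⟩ := mem_sup_of_normal_left.mp (show x ∈ Z ⊔ M by rw [sup_comm, hZM']; trivial)
    have hmX : m ∈ X := by rw [show m = z⁻¹ * x by rw [← e, inv_mul_cancel_left]]; exact mul_mem (inv_mem (hYX hz.1)) hx
    have hxY : x ∈ Y' := e ▸ mul_mem hz.1 (hMY ⟨hm, hmX⟩)
    obtain ⟨y, hy, e'⟩ := hxY
    rwa [show (⟨x, hx⟩ : X) = y from Subtype.ext e'.symm]
  have hprime := coatom_index_prime (hprop X hXne) _ hco
  have hfin : M.relIndex X = M.index := by
    refine le_antisymm ?_ ?_
    · rw [← Subgroup.relIndex_top_right M]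
      exact Subgroup.relIndex_le_of_le_right le_top (by rw [Subgroup.relIndex_top_right]; exact Subgroup.index_ne_zero_of_finite)
    · rw [← hrel P1 M hP1n hMP1]
      exact Subgroup.relIndex_le_of_le_right le_sup_left Subgroup.index_ne_zero_of_finite
  rw [← hfin]
  exact hprime

end Cfsg.Agent.Supersolv
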